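import Cfsg.Agent.H126.PwO.Nu
import Cfsg.Agent.H126.M3.Main
import Cfsg.Agent.H85.Pw.IrrThree
import Cfsg.Agent.H71.CovScal
import Cfsg.Agent.H434.OreBridge

/-!
# S2465, orthogonal groups: frames of length 3 over `F_3`, `F_9`; `PΩ_7` (helper367)
-/

set_option autoImplicit false
set_option linter.unusedSectionVars false
set_option linter.unusedVariables false

namespace Cfsg.Agent.H367.PO

open QuadraticMap Matrix Module Polynomial Cfsg.Agent.LieClassical.OrthCore Cfsg.Agent.LieClassical.OrthTrans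
  Cfsg.Agent.LieClassical.OrthFinite Cfsg.Agent.H140.OreO Cfsg.Agent.H126.PwO

universe u v

variable {F : Type u} [Field F]

theorem eval_rev_one (p : F[X]) : p.reverse.eval 1 = p.eval 1 := by
  have i1 : Invertible (1 : F) := invertibleOne
  have h3 := eval₂_reverse_mul_pow (RingHom.id F) (1 : F) p
  rw [invOf_one, one_pow, mul_one] at h3
  exact h3

theorem eval_rev_neg_one (p : F[X]) : p.reverse.eval (-1) * (-1) ^ p.natDegree = p.eval (-1) := by
  let i1 : Invertible (-1 : F) := ⟨-1, by ring, by ring⟩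
  have h3 := eval₂_reverse_mul_pow (RingHom.id F) (-1 : F) p
  have h4 : ⅟(-1 : F) = -1 := rfl
  rw [h4] at h3
  exact h3

/-- irreducible polynomials of odd degree are not self-reciprocal -/
theorem cop_rev_odd (h2 : (2 : F) ≠ 0) {p : F[X]} (hm : p.Monic) (hp : Irreducible p) (hd : 2 ≤ p.natDegree)
    (ho : Odd p.natDegree) : IsCoprime p p.reverse := by
  rw [hp.coprime_iff_not_dvd]
  intro h
  have h0 : p.coeff 0 ≠ 0 := coeff_zero_ne hp hd
  have h1 := Polynomial.eq_mul_leadingCoeff_of_monic_of_dvd_of_natDegree_le hm h (natDegree_rev h0).le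
  have hev : ∀ x : F, p.eval x ≠ 0 := fun x => eval_ne_zero hp hd x
  have e1 : p.reverse.leadingCoeff = 1 := by
    have := congrArg (eval 1) h1
    rw [eval_rev_one, eval_mul, eval_C] at this
    exact (mul_left_cancel₀ (hev 1) (by rw [mul_one, ← this])).symm
  have e2 := eval_rev_neg_one p
  rw [h1, e1, C_1, mul_one, ho.neg_one_pow] at e2
  apply hev (-1)
  have h3 : (2 : F) * p.eval (-1) = 0 := by linear_combination -e2
  exact (mul_eq_zero.1 h3).resolve_left h2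

theorem copP_odd {V : Type v} [AddCommGroup V] [Module F V] {m : ℕ} (h2 : (2 : F) ≠ 0) {p : F[X]} (hm : p.Monic)
    (hp : Irreducible p) (hd : 2 ≤ p.natDegree) (ho : Odd p.natDegree) : CopP m p (1 : V ≃ₗ[F] V) :=
  copP_of_cop (un_one (eval_ne_zero hp hd 1)) (un_one (by rw [eval_rev_one]; exact eval_ne_zero hp hd 1))
    (cop_rev_odd h2 hm hp hd ho)

/-- the order of an irreducible element of determinant one -/
theorem pow_of_irr [Finite F] {n : ℕ} {X : Matrix (Fin n) (Fin n) F} (hX : Irreducible X.charpoly) (h1 : X.det = 1) :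
    X ^ ∑ i : Fin n, Nat.card F ^ (i : ℕ) = 1 := by
  have h2 := Cfsg.Agent.H71.CovScal.pow_eq_det (T := Matrix.toLin' X) (by rwa [Matrix.charpoly_toLin'])
  rw [LinearMap.det_toLin', h1, one_smul, finrank_fin_fun] at h2
  apply Matrix.toLin'.injective
  rw [Matrix.toLin'_pow, h2, Matrix.toLin'_one]
  rfl

/-- `P_3` for `q = 3, 9` -/
theorem split_three [Finite F] (hF : Nat.card F = 3 ∨ Nat.card F = 9) {A : Matrix (Fin 3) (Fin 3) F} (hA : A.det = 1)
    (hs : A = 1 ∨ ∀ c : F, A ≠ c • (1 : Matrix (Fin 3) (Fin 3) F)) :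
    ∃ (X Y : Matrix (Fin 3) (Fin 3) F) (s : ℕ), A = X * Y ∧ X.det = 1 ∧ Y.det = 1 ∧ Irreducible X.charpoly ∧
      Irreducible Y.charpoly ∧ s.Coprime 6 ∧ X ^ s = 1 ∧ Y ^ s = 1 := by
  rcases hF with hF | hF
  · obtain ⟨x, y, h, hx, hy, hx1, hy1⟩ := Cfsg.Agent.H85.Pw.p_three_three hF ⟨A, hA⟩
    refine ⟨x, y, 13, ?_, x.2, y.2, hx, hy, by decide, ?_, ?_⟩
    · exact congrArg Subtype.val h
    · exact congrArg Subtype.val hx1
    · exact congrArg Subtype.val hy1
  · obtain ⟨x, y, h, hx, hy, -⟩ := Cfsg.Agent.H126.M3.m3_sl (by rw [hF]; norm_num) ⟨A, hA⟩ (by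
      rcases hs with h | h
      · exact Or.inl (Subtype.ext h)
      · exact Or.inr h)
    have h3 : ∑ i : Fin 3, Nat.card F ^ (i : ℕ) = 91 := by
      rw [Fin.sum_univ_three, hF]; rfl
    refine ⟨x, y, 91, ?_, x.2, y.2, hx, hy, by decide, ?_, ?_⟩
    · exact congrArg Subtype.val h
    · rw [← h3]; exact pow_of_irr hx x.2
    · rw [← h3]; exact pow_of_irr hy y.2

theorem two_ne_zero_of [Finite F] (ho : Odd (Nat.card F)) : (2 : F) ≠ 0 := by
  have := Fintype.ofFinite F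
  intro h0
  have : CharP F 2 := CharTwo.of_one_ne_zero_of_two_eq_zero one_ne_zero h0
  have h3 := (FiniteField.even_card_iff_char_two (F := F)).1 (ringChar.eq F 2)
  rw [Nat.card_eq_fintype_card, Nat.odd_iff] at ho
  omega

/-- **frames of length 3, `q = 3, 9`** -/
theorem prO_frame_three {V : Type v} [AddCommGroup V] [Module F V] {Q : QuadraticForm F V} [Finite F]
    [FiniteDimensional F V] (hF : Nat.card F = 3 ∨ Nat.card F = 9) (hN : 5 ≤ finrank F V)
    {w w' : Fin 3 → V} (hQ : Nondeg Q) (hf : Frame Q w w') {g : V ≃ₗ[F] V} (hg : g ∈ O Q)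
    (hS : SchurOne Q g w w') (hdet : (corner Q g w w').det = 1)
    (hA : corner Q g w w' = 1 ∨ ∀ c : F, corner Q g w w' ≠ c • (1 : Matrix (Fin 3) (Fin 3) F)) : PrO 6 Q g := by
  obtain ⟨X, Y, s, h, hX, hY, hXi, hYi, hs, hXs, hYs⟩ := split_three hF hdet hA
  have h2 : (2 : F) ≠ 0 := two_ne_zero_of (by rcases hF with h | h <;> rw [h] <;> decide)
  have hd : ∀ X : Matrix (Fin 3) (Fin 3) F, X.charpoly.natDegree = 3 := fun X => by
    rw [charpoly_natDegree_eq_dim, Fintype.card_fin]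
  exact prO_mat hN hQ hf hg hS h hX hY
    (copP_odd h2 (charpoly_monic X) hXi (by rw [hd]; norm_num) (by rw [hd]; decide))
    (copP_odd h2 (charpoly_monic Y) hYi (by rw [hd]; norm_num) (by rw [hd]; decide)) hs hs hXs hYs

/-! ### odd dimension -/

theorem prO_one {V : Type v} [AddCommGroup V] [Module F V] {Q : QuadraticForm F V} (N : ℕ) :
    PrO N Q (1 : V ≃ₗ[F] V) :=
  ⟨1, (Om Q).one_mem, 1, (Om Q).one_mem, 1, 1, (one_mul 1).symm, Nat.coprime_one_left N, Nat.coprime_one_left N,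
    one_pow 1, one_pow 1⟩

theorem ns_of_ne_one {V : Type v} [AddCommGroup V] [Module F V] {Q : QuadraticForm F V} [FiniteDimensional F V]
    (hQ : Nondeg Q) (ho : Odd (finrank F V)) {g : V ≃ₗ[F] V} (hg : g ∈ Om Q) (h1 : g ≠ 1) :
    ∀ c : F, ∃ v, g v ≠ c • v := by
  intro c
  by_contra hcon
  push Not at hcon
  apply h1
  have hV : 0 < finrank F V := ho.pos
  obtain ⟨x, hx⟩ : ∃ x : V, x ≠ 0 := by
    have := Module.finrank_pos_iff.1 hV
    exact exists_ne 0
  obtain ⟨y, hy⟩ := hQ.exists_polar_eq hx 1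
  have h2 := polar_map (Om_le hg) x y
  rw [hcon, hcon, polar_smul_left, polar_smul_right, hy, smul_eq_mul, smul_eq_mul, mul_one] at h2
  have h3 := H141.SpinFacts.det_eq_one' hg
  have h4 : (g : V →ₗ[F] V) = c • (LinearMap.id : V →ₗ[F] V) := LinearMap.ext fun v => hcon v
  rw [h4, LinearMap.det_smul, LinearMap.det_id, mul_one] at h3
  obtain ⟨k, hk⟩ := ho
  rw [hk, pow_succ, pow_mul, pow_two, h2, one_pow, one_mul] at h3
  apply LinearEquiv.ext
  intro v
  rw [hcon, h3, one_smul]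
  rfl

/-- **the bridge** -/
theorem all_pomega {ι : Type} [Fintype ι] [DecidableEq ι] {Q : QuadraticForm F (ι → F)} {N : ℕ}
    (H : ∀ g ∈ Om Q, PrO N Q g) : Cfsg.Agent.H78.Pw.All N (Cfsg.POmega F ⇑Q) := by
  refine Cfsg.Agent.H78.Pw.All.of_surjective (QuotientGroup.mk' _) (QuotientGroup.mk'_surjective _) ?_
  refine Cfsg.Agent.H78.Pw.All.congr (omegaEquiv Q).symm ?_
  rintro ⟨g, hg⟩
  obtain ⟨a, ha, b, hb, s, t, h, hs, ht, has, hbt⟩ := H g hg
  refine ⟨⟨a, ha⟩, ⟨b, hb⟩, Subtype.ext h, ?_, ?_⟩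
  · exact Nat.Coprime.of_dvd_left (orderOf_dvd_of_pow_eq_one (Subtype.ext has)) hs
  · exact Nat.Coprime.of_dvd_left (orderOf_dvd_of_pow_eq_one (Subtype.ext hbt)) ht

theorem all_odd [Fintype F] (hodd : Odd (Fintype.card F)) (n : ℕ) {N : ℕ}
    (H : ∀ Q : QuadraticForm F (Unit ⊕ (Fin n ⊕ Fin n) → F), Nondeg Q →
      finrank F (Unit ⊕ (Fin n ⊕ Fin n) → F) = 2 * n + 1 → ∀ g ∈ Om Q, PrO N Q g) :
    Cfsg.Agent.H78.Pw.All N (Cfsg.POmega F (Cfsg.quadFormOdd n F)) := by
  have h2 : (2 : F) ≠ 0 := two_ne_zero_of (by rwa [Nat.card_eq_fintype_card])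
  have h5 := all_pomega (H (Cfsg.Agent.LieClassical.OrthForms.oddForm n F)
    (Cfsg.Agent.LieClassical.OrthForms.nondeg_oddForm n F h2)
    (by rw [Module.finrank_fintype_fun_eq_card]; simp; ring))
  rwa [Cfsg.Agent.LieClassical.OrthForms.coe_oddForm] at h5

/-- dimension 7 -/
theorem prO_seven {V : Type v} [AddCommGroup V] [Module F V] {Q : QuadraticForm F V} [Finite F]
    [FiniteDimensional F V] (hF : Nat.card F = 3 ∨ Nat.card F = 9) (hQ : Nondeg Q) (hd : finrank F V = 7)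
    {g : V ≃ₗ[F] V} (hg : g ∈ Om Q) : PrO 6 Q g := by
  by_cases h1 : g = 1
  · rw [h1]
    exact prO_one 6
  obtain ⟨m, hm3, hm1, hm2, w, w', hfr, hS, hdet, hA⟩ :=
    Cfsg.Agent.H434.Corn.exists_baseCorner hQ (by omega) hg (ns_of_ne_one hQ (by rw [hd]; decide) hg h1)
  obtain rfl : m = 3 := by omega
  exact prO_frame_three hF (by omega) hQ hfr (Om_le hg) hS hdet (hA.imp id fun h => h.1)

/-- **`PΩ_7(3)`, `PΩ_7(9)`** -/
theorem six_seven [Fintype F] (hF : Fintype.card F = 3 ∨ Fintype.card F = 9) :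
    Cfsg.Agent.H78.Pw.All 6 (Cfsg.POmega F (Cfsg.quadFormOdd 3 F)) := by
  refine all_odd (by rcases hF with h | h <;> rw [h] <;> decide) 3 fun Q hQ hd g hg => ?_
  exact prO_seven (by rwa [Nat.card_eq_fintype_card]) hQ hd hg

end Cfsg.Agent.H367.PO
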