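import Mathlib

/-!
# An explicit identity in the orthogonal groups of dimension 9 over `F_3` (helper367, for S2465)

`-r_e = a * b` with `a ^ 41 = b ^ 41 = 1`, for the forms `x₀x₅ + x₁x₆ + x₂x₇ + x₃x₈ ± x₄²`.
-/

set_option autoImplicit false
set_option maxRecDepth 100000

namespace Cfsg.Agent.H367.PO

open Matrix

abbrev M9 := Matrix (Fin 9) (Fin 9) (ZMod 3)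

/-- The certificate. -/
structure Cert (G D : M9) : Prop where
  ex : ∃ A B : M9, A * B = D ∧ Aᵀ * G * A = G ∧ Bᵀ * G * B = G ∧ A ^ 41 = 1 ∧ B ^ 41 = 1

theorem pow41 {A A2 A4 A5 A10 A20 A40 : M9} (h2 : A * A = A2) (h4 : A2 * A2 = A4) (h5 : A4 * A = A5)
    (h10 : A5 * A5 = A10) (h20 : A10 * A10 = A20) (h40 : A20 * A20 = A40) (h41 : A40 * A = 1) : A ^ 41 = 1 := by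
  rw [← h41, ← h40, ← h20, ← h10, ← h5, ← h4, ← h2]
  simp only [← pow_succ, ← pow_two, ← pow_mul]
  norm_num

def DD : M9 := !![2, 0, 0, 0, 0, 0, 0, 0, 0; 0, 2, 0, 0, 0, 0, 0, 0, 0; 0, 0, 2, 0, 0, 0, 0, 0, 0; 0, 0, 0, 2, 0, 0, 0, 0, 0; 0, 0, 0, 0, 1, 0, 0, 0, 0; 0, 0, 0, 0, 0, 2, 0, 0, 0; 0, 0, 0, 0, 0, 0, 2, 0, 0; 0, 0, 0, 0, 0, 0, 0, 2, 0; 0, 0, 0, 0, 0, 0, 0, 0, 2]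

def G1 : M9 := !![0, 0, 0, 0, 0, 1, 0, 0, 0; 0, 0, 0, 0, 0, 0, 1, 0, 0; 0, 0, 0, 0, 0, 0, 0, 1, 0; 0, 0, 0, 0, 0, 0, 0, 0, 1; 0, 0, 0, 0, 2, 0, 0, 0, 0; 1, 0, 0, 0, 0, 0, 0, 0, 0; 0, 1, 0, 0, 0, 0, 0, 0, 0; 0, 0, 1, 0, 0, 0, 0, 0, 0; 0, 0, 0, 1, 0, 0, 0, 0, 0]

def A1_1 : M9 := !![0, 0, 0, 2, 1, 2, 0, 2, 1; 2, 0, 0, 2, 1, 2, 0, 1, 2; 1, 2, 1, 0, 0, 2, 0, 1, 1; 0, 2, 1, 1, 2, 0, 2, 0, 1; 0, 0, 0, 0, 2, 0, 0, 0, 1; 1, 0, 1, 1, 2, 1, 1, 2, 2; 2, 1, 0, 2, 1, 1, 2, 1, 2; 2, 1, 0, 1, 2, 1, 0, 1, 0; 1, 2, 0, 0, 0, 0, 0, 1, 2]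

def A1_2 : M9 := !![1, 2, 1, 0, 2, 1, 0, 1, 0; 0, 0, 1, 0, 2, 1, 0, 2, 1; 1, 2, 0, 0, 0, 2, 2, 2, 0; 1, 2, 2, 0, 1, 2, 0, 0, 2; 1, 2, 0, 0, 1, 0, 0, 1, 1; 1, 2, 0, 2, 2, 2, 2, 1, 1; 2, 2, 0, 2, 0, 1, 0, 0, 2; 2, 0, 2, 0, 1, 2, 0, 2, 0; 2, 2, 0, 1, 2, 1, 0, 1, 0]

def A1_4 : M9 := !![1, 1, 2, 2, 2, 0, 1, 0, 2; 1, 1, 1, 0, 2, 0, 1, 1, 0; 2, 1, 1, 2, 0, 1, 1, 2, 2; 1, 1, 0, 0, 0, 1, 2, 2, 2; 0, 0, 2, 1, 1, 0, 0, 0, 0; 0, 2, 0, 0, 2, 1, 1, 0, 2; 0, 2, 2, 1, 1, 0, 2, 0, 1; 2, 2, 0, 1, 2, 2, 2, 1, 0; 2, 0, 2, 2, 2, 1, 2, 2, 1]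

def A1_5 : M9 := !![2, 1, 1, 2, 2, 0, 0, 2, 0; 1, 1, 1, 1, 0, 2, 2, 0, 2; 0, 1, 1, 1, 2, 0, 1, 1, 0; 1, 2, 1, 2, 1, 0, 2, 2, 1; 2, 0, 0, 1, 1, 1, 2, 2, 1; 0, 2, 1, 1, 0, 0, 0, 1, 2; 2, 1, 0, 0, 2, 1, 0, 1, 2; 0, 2, 0, 1, 0, 1, 2, 1, 2; 0, 2, 2, 1, 0, 1, 0, 1, 1]

def A1_10 : M9 := !![2, 0, 0, 2, 1, 0, 0, 0, 1; 2, 0, 1, 1, 0, 0, 2, 2, 1; 2, 1, 0, 1, 1, 0, 2, 0, 0; 0, 1, 2, 1, 2, 1, 0, 2, 1; 2, 2, 0, 2, 1, 0, 2, 2, 1; 0, 2, 2, 2, 0, 1, 0, 0, 0; 0, 2, 2, 2, 0, 1, 2, 0, 1; 1, 2, 2, 2, 2, 0, 2, 2, 0; 0, 0, 2, 0, 2, 0, 1, 1, 1]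

def A1_20 : M9 := !![0, 1, 0, 2, 0, 2, 0, 1, 0; 2, 1, 0, 2, 2, 0, 2, 1, 0; 2, 1, 1, 0, 2, 0, 2, 0, 1; 0, 1, 2, 2, 0, 2, 0, 1, 2; 0, 0, 1, 0, 1, 1, 0, 0, 1; 2, 0, 2, 2, 0, 0, 2, 2, 1; 2, 1, 2, 0, 2, 2, 1, 0, 1; 1, 1, 2, 2, 1, 1, 2, 1, 0; 0, 1, 0, 1, 2, 1, 1, 1, 1]

def A1_40 : M9 := !![1, 1, 1, 0, 0, 2, 2, 2, 0; 1, 2, 0, 0, 0, 0, 0, 0, 2; 2, 1, 1, 1, 0, 2, 1, 1, 0; 2, 2, 0, 2, 2, 1, 2, 1, 1; 1, 2, 1, 0, 2, 2, 2, 0, 1; 1, 2, 2, 1, 0, 0, 2, 1, 0; 0, 1, 1, 2, 0, 0, 0, 2, 2; 1, 0, 0, 0, 0, 0, 0, 1, 1; 1, 2, 1, 0, 0, 2, 2, 0, 1]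

def A1_G : M9 := !![1, 2, 2, 1, 0, 0, 2, 1, 0; 0, 1, 1, 2, 0, 0, 0, 2, 2; 1, 0, 0, 0, 0, 0, 0, 1, 1; 1, 2, 1, 0, 0, 2, 2, 0, 1; 2, 1, 2, 0, 1, 1, 1, 0, 2; 1, 1, 1, 0, 0, 2, 2, 2, 0; 1, 2, 0, 0, 0, 0, 0, 0, 2; 2, 1, 1, 1, 0, 2, 1, 1, 0; 2, 2, 0, 2, 2, 1, 2, 1, 1]

def B1_1 : M9 := !![2, 2, 2, 0, 0, 1, 1, 1, 0; 2, 1, 0, 0, 0, 0, 0, 0, 1; 1, 2, 2, 2, 0, 1, 2, 2, 0; 1, 1, 0, 1, 2, 2, 1, 2, 2; 2, 1, 2, 0, 2, 1, 1, 0, 2; 2, 1, 1, 2, 0, 0, 1, 2, 0; 0, 2, 2, 1, 0, 0, 0, 1, 1; 2, 0, 0, 0, 0, 0, 0, 2, 2; 2, 1, 2, 0, 0, 1, 1, 0, 2]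

def B1_2 : M9 := !![2, 1, 2, 1, 0, 1, 1, 2, 2; 2, 0, 0, 0, 0, 0, 0, 2, 0; 1, 0, 2, 1, 1, 1, 2, 2, 0; 0, 0, 2, 0, 0, 1, 2, 0, 1; 0, 1, 1, 1, 1, 2, 2, 0, 1; 1, 2, 2, 2, 1, 1, 0, 1, 1; 2, 2, 0, 2, 2, 2, 0, 2, 2; 0, 0, 2, 0, 0, 1, 1, 0, 2; 2, 2, 0, 1, 0, 0, 0, 0, 0]

def B1_4 : M9 := !![0, 1, 1, 1, 2, 1, 1, 1, 0; 1, 2, 2, 2, 0, 1, 1, 1, 2; 0, 2, 0, 1, 2, 1, 2, 2, 1; 0, 2, 0, 0, 1, 1, 1, 0, 2; 2, 2, 0, 2, 2, 1, 0, 1, 2; 2, 0, 0, 1, 1, 0, 0, 2, 2; 2, 0, 0, 1, 1, 0, 0, 1, 2; 0, 2, 0, 2, 2, 2, 1, 1, 0; 2, 2, 0, 2, 0, 0, 1, 2, 2]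

def B1_5 : M9 := !![0, 0, 0, 0, 0, 2, 0, 0, 1; 0, 0, 1, 0, 1, 0, 1, 2, 1; 2, 2, 2, 2, 0, 2, 2, 1, 1; 0, 2, 0, 0, 2, 0, 1, 0, 0; 1, 1, 1, 1, 2, 1, 0, 1, 1; 0, 2, 1, 1, 1, 1, 0, 2, 0; 1, 2, 1, 1, 1, 1, 0, 0, 1; 1, 1, 2, 1, 2, 0, 0, 2, 1; 0, 0, 1, 0, 1, 2, 0, 2, 0]

def B1_10 : M9 := !![0, 1, 0, 2, 0, 1, 0, 0, 0; 0, 1, 0, 0, 2, 0, 2, 2, 2; 1, 2, 1, 0, 1, 2, 2, 2, 0; 0, 1, 2, 0, 1, 0, 2, 0, 2; 2, 0, 0, 0, 2, 0, 1, 2, 0; 2, 0, 1, 0, 2, 1, 2, 0, 0; 0, 1, 1, 1, 2, 2, 2, 1, 2; 2, 1, 0, 2, 0, 1, 0, 0, 2; 2, 0, 0, 1, 2, 2, 2, 1, 1]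

def B1_20 : M9 := !![2, 0, 2, 0, 0, 1, 2, 2, 0; 0, 2, 2, 2, 2, 1, 0, 1, 0; 2, 0, 2, 2, 0, 2, 0, 1, 0; 2, 1, 1, 1, 2, 0, 0, 0, 2; 2, 2, 1, 0, 0, 0, 1, 2, 0; 1, 0, 1, 0, 2, 0, 1, 2, 1; 0, 1, 1, 0, 2, 1, 2, 0, 0; 0, 2, 2, 0, 1, 1, 0, 1, 2; 0, 0, 0, 0, 0, 2, 2, 1, 0]

def B1_40 : M9 := !![0, 0, 0, 1, 2, 1, 0, 1, 2; 1, 0, 0, 1, 2, 1, 0, 2, 1; 2, 1, 2, 0, 0, 1, 0, 2, 2; 0, 1, 2, 2, 1, 0, 1, 0, 2; 0, 0, 0, 0, 2, 0, 0, 0, 1; 2, 0, 2, 2, 1, 2, 2, 1, 1; 1, 2, 0, 1, 2, 2, 1, 2, 1; 1, 2, 0, 2, 1, 2, 0, 2, 0; 2, 1, 0, 0, 0, 0, 0, 2, 1]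

def B1_G : M9 := !![2, 0, 2, 2, 1, 2, 2, 1, 1; 1, 2, 0, 1, 2, 2, 1, 2, 1; 1, 2, 0, 2, 1, 2, 0, 2, 0; 2, 1, 0, 0, 0, 0, 0, 2, 1; 0, 0, 0, 0, 1, 0, 0, 0, 2; 0, 0, 0, 1, 2, 1, 0, 1, 2; 1, 0, 0, 1, 2, 1, 0, 2, 1; 2, 1, 2, 0, 0, 1, 0, 2, 2; 0, 1, 2, 2, 1, 0, 1, 0, 2]

def G2 : M9 := !![0, 0, 0, 0, 0, 1, 0, 0, 0; 0, 0, 0, 0, 0, 0, 1, 0, 0; 0, 0, 0, 0, 0, 0, 0, 1, 0; 0, 0, 0, 0, 0, 0, 0, 0, 1; 0, 0, 0, 0, 1, 0, 0, 0, 0; 1, 0, 0, 0, 0, 0, 0, 0, 0; 0, 1, 0, 0, 0, 0, 0, 0, 0; 0, 0, 1, 0, 0, 0, 0, 0, 0; 0, 0, 0, 1, 0, 0, 0, 0, 0]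

def A2_1 : M9 := !![0, 0, 0, 2, 1, 1, 0, 1, 2; 2, 0, 0, 2, 1, 1, 0, 2, 1; 1, 2, 1, 0, 0, 1, 0, 2, 2; 0, 2, 1, 1, 2, 0, 1, 0, 2; 0, 0, 0, 0, 2, 0, 0, 0, 2; 2, 0, 2, 2, 1, 1, 1, 2, 2; 1, 2, 0, 1, 2, 1, 2, 1, 2; 1, 2, 0, 2, 1, 1, 0, 1, 0; 2, 1, 0, 0, 0, 0, 0, 1, 2]

def A2_2 : M9 := !![1, 2, 1, 0, 2, 2, 0, 2, 0; 0, 0, 1, 0, 2, 2, 0, 1, 2; 1, 2, 0, 0, 0, 1, 1, 1, 0; 1, 2, 2, 0, 1, 1, 0, 0, 1; 1, 2, 0, 0, 1, 0, 0, 2, 2; 2, 1, 0, 1, 1, 2, 2, 1, 1; 1, 1, 0, 1, 0, 1, 0, 0, 2; 1, 0, 1, 0, 2, 2, 0, 2, 0; 1, 1, 0, 2, 1, 1, 0, 1, 0]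

def A2_4 : M9 := !![1, 1, 2, 2, 2, 0, 2, 0, 1; 1, 1, 1, 0, 2, 0, 2, 2, 0; 2, 1, 1, 2, 0, 2, 2, 1, 1; 1, 1, 0, 0, 0, 2, 1, 1, 1; 0, 0, 2, 1, 1, 0, 0, 0, 0; 0, 1, 0, 0, 1, 1, 1, 0, 2; 0, 1, 1, 2, 2, 0, 2, 0, 1; 1, 1, 0, 2, 1, 2, 2, 1, 0; 1, 0, 1, 1, 1, 1, 2, 2, 1]

def A2_5 : M9 := !![2, 1, 1, 2, 2, 0, 0, 1, 0; 1, 1, 1, 1, 0, 1, 1, 0, 1; 0, 1, 1, 1, 2, 0, 2, 2, 0; 1, 2, 1, 2, 1, 0, 1, 1, 2; 2, 0, 0, 1, 1, 2, 1, 1, 2; 0, 1, 2, 2, 0, 0, 0, 1, 2; 1, 2, 0, 0, 1, 1, 0, 1, 2; 0, 1, 0, 2, 0, 1, 2, 1, 2; 0, 1, 1, 2, 0, 1, 0, 1, 1]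

def A2_10 : M9 := !![2, 0, 0, 2, 1, 0, 0, 0, 2; 2, 0, 1, 1, 0, 0, 1, 1, 2; 2, 1, 0, 1, 1, 0, 1, 0, 0; 0, 1, 2, 1, 2, 2, 0, 1, 2; 2, 2, 0, 2, 1, 0, 1, 1, 2; 0, 1, 1, 1, 0, 1, 0, 0, 0; 0, 1, 1, 1, 0, 1, 2, 0, 1; 2, 1, 1, 1, 1, 0, 2, 2, 0; 0, 0, 1, 0, 1, 0, 1, 1, 1]

def A2_20 : M9 := !![0, 1, 0, 2, 0, 1, 0, 2, 0; 2, 1, 0, 2, 2, 0, 1, 2, 0; 2, 1, 1, 0, 2, 0, 1, 0, 2; 0, 1, 2, 2, 0, 1, 0, 2, 1; 0, 0, 1, 0, 1, 2, 0, 0, 2; 1, 0, 1, 1, 0, 0, 2, 2, 1; 1, 2, 1, 0, 1, 2, 1, 0, 1; 2, 2, 1, 1, 2, 1, 2, 1, 0; 0, 2, 0, 2, 1, 1, 1, 1, 1]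

def A2_40 : M9 := !![1, 1, 1, 0, 0, 1, 1, 1, 0; 1, 2, 0, 0, 0, 0, 0, 0, 1; 2, 1, 1, 1, 0, 1, 2, 2, 0; 2, 2, 0, 2, 2, 2, 1, 2, 2; 1, 2, 1, 0, 2, 1, 1, 0, 2; 2, 1, 1, 2, 0, 0, 2, 1, 0; 0, 2, 2, 1, 0, 0, 0, 2, 2; 2, 0, 0, 0, 0, 0, 0, 1, 1; 2, 1, 2, 0, 0, 2, 2, 0, 1]

def A2_G : M9 := !![2, 1, 1, 2, 0, 0, 2, 1, 0; 0, 2, 2, 1, 0, 0, 0, 2, 2; 2, 0, 0, 0, 0, 0, 0, 1, 1; 2, 1, 2, 0, 0, 2, 2, 0, 1; 1, 2, 1, 0, 2, 1, 1, 0, 2; 1, 1, 1, 0, 0, 1, 1, 1, 0; 1, 2, 0, 0, 0, 0, 0, 0, 1; 2, 1, 1, 1, 0, 1, 2, 2, 0; 2, 2, 0, 2, 2, 2, 1, 2, 2]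

def B2_1 : M9 := !![2, 2, 2, 0, 0, 2, 2, 2, 0; 2, 1, 0, 0, 0, 0, 0, 0, 2; 1, 2, 2, 2, 0, 2, 1, 1, 0; 1, 1, 0, 1, 2, 1, 2, 1, 1; 2, 1, 2, 0, 2, 2, 2, 0, 1; 1, 2, 2, 1, 0, 0, 1, 2, 0; 0, 1, 1, 2, 0, 0, 0, 1, 1; 1, 0, 0, 0, 0, 0, 0, 2, 2; 1, 2, 1, 0, 0, 1, 1, 0, 2]

def B2_2 : M9 := !![2, 1, 2, 1, 0, 2, 2, 1, 1; 2, 0, 0, 0, 0, 0, 0, 1, 0; 1, 0, 2, 1, 1, 2, 1, 1, 0; 0, 0, 2, 0, 0, 2, 1, 0, 2; 0, 1, 1, 1, 1, 1, 1, 0, 2; 2, 1, 1, 1, 2, 1, 0, 1, 1; 1, 1, 0, 1, 1, 2, 0, 2, 2; 0, 0, 1, 0, 0, 1, 1, 0, 2; 1, 1, 0, 2, 0, 0, 0, 0, 0]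

def B2_4 : M9 := !![0, 1, 1, 1, 2, 2, 2, 2, 0; 1, 2, 2, 2, 0, 2, 2, 2, 1; 0, 2, 0, 1, 2, 2, 1, 1, 2; 0, 2, 0, 0, 1, 2, 2, 0, 1; 2, 2, 0, 2, 2, 2, 0, 2, 1; 1, 0, 0, 2, 2, 0, 0, 2, 2; 1, 0, 0, 2, 2, 0, 0, 1, 2; 0, 1, 0, 1, 1, 2, 1, 1, 0; 1, 1, 0, 1, 0, 0, 1, 2, 2]

def B2_5 : M9 := !![0, 0, 0, 0, 0, 1, 0, 0, 2; 0, 0, 1, 0, 1, 0, 2, 1, 2; 2, 2, 2, 2, 0, 1, 1, 2, 2; 0, 2, 0, 0, 2, 0, 2, 0, 0; 1, 1, 1, 1, 2, 2, 0, 2, 2; 0, 1, 2, 2, 2, 1, 0, 2, 0; 2, 1, 2, 2, 2, 1, 0, 0, 1; 2, 2, 1, 2, 1, 0, 0, 2, 1; 0, 0, 2, 0, 2, 2, 0, 2, 0]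

def B2_10 : M9 := !![0, 1, 0, 2, 0, 2, 0, 0, 0; 0, 1, 0, 0, 2, 0, 1, 1, 1; 1, 2, 1, 0, 1, 1, 1, 1, 0; 0, 1, 2, 0, 1, 0, 1, 0, 1; 2, 0, 0, 0, 2, 0, 2, 1, 0; 1, 0, 2, 0, 1, 1, 2, 0, 0; 0, 2, 2, 2, 1, 2, 2, 1, 2; 1, 2, 0, 1, 0, 1, 0, 0, 2; 1, 0, 0, 2, 1, 2, 2, 1, 1]

def B2_20 : M9 := !![2, 0, 2, 0, 0, 2, 1, 1, 0; 0, 2, 2, 2, 2, 2, 0, 2, 0; 2, 0, 2, 2, 0, 1, 0, 2, 0; 2, 1, 1, 1, 2, 0, 0, 0, 1; 2, 2, 1, 0, 0, 0, 2, 1, 0; 2, 0, 2, 0, 1, 0, 1, 2, 1; 0, 2, 2, 0, 1, 1, 2, 0, 0; 0, 1, 1, 0, 2, 1, 0, 1, 2; 0, 0, 0, 0, 0, 2, 2, 1, 0]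

def B2_40 : M9 := !![0, 0, 0, 1, 2, 2, 0, 2, 1; 1, 0, 0, 1, 2, 2, 0, 1, 2; 2, 1, 2, 0, 0, 2, 0, 1, 1; 0, 1, 2, 2, 1, 0, 2, 0, 1; 0, 0, 0, 0, 2, 0, 0, 0, 2; 1, 0, 1, 1, 2, 2, 2, 1, 1; 2, 1, 0, 2, 1, 2, 1, 2, 1; 2, 1, 0, 1, 2, 2, 0, 2, 0; 1, 2, 0, 0, 0, 0, 0, 2, 1]

def B2_G : M9 := !![1, 0, 1, 1, 2, 2, 2, 1, 1; 2, 1, 0, 2, 1, 2, 1, 2, 1; 2, 1, 0, 1, 2, 2, 0, 2, 0; 1, 2, 0, 0, 0, 0, 0, 2, 1; 0, 0, 0, 0, 2, 0, 0, 0, 2; 0, 0, 0, 1, 2, 2, 0, 2, 1; 1, 0, 0, 1, 2, 2, 0, 1, 2; 2, 1, 2, 0, 0, 2, 0, 1, 1; 0, 1, 2, 2, 1, 0, 2, 0, 1]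

theorem cert1 : Cert G1 DD := by
  refine ⟨A1_1, B1_1, by decide +kernel, ?_, ?_, ?_, ?_⟩
  · have h : A1_1ᵀ * G1 = A1_G := by decide +kernel
    rw [h]
    decide +kernel
  · have h : B1_1ᵀ * G1 = B1_G := by decide +kernel
    rw [h]
    decide +kernel
  · exact pow41 (A := A1_1) (A2 := A1_2) (A4 := A1_4) (A5 := A1_5) (A10 := A1_10) (A20 := A1_20) (A40 := A1_40)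
      (by decide +kernel) (by decide +kernel) (by decide +kernel)
      (by decide +kernel) (by decide +kernel) (by decide +kernel)
      (by decide +kernel)
  · exact pow41 (A := B1_1) (A2 := B1_2) (A4 := B1_4) (A5 := B1_5) (A10 := B1_10) (A20 := B1_20) (A40 := B1_40)
      (by decide +kernel) (by decide +kernel) (by decide +kernel)
      (by decide +kernel) (by decide +kernel) (by decide +kernel)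
      (by decide +kernel)

theorem cert2 : Cert G2 DD := by
  refine ⟨A2_1, B2_1, by decide +kernel, ?_, ?_, ?_, ?_⟩
  · have h : A2_1ᵀ * G2 = A2_G := by decide +kernel
    rw [h]
    decide +kernel
  · have h : B2_1ᵀ * G2 = B2_G := by decide +kernel
    rw [h]
    decide +kernel
  · exact pow41 (A := A2_1) (A2 := A2_2) (A4 := A2_4) (A5 := A2_5) (A10 := A2_10) (A20 := A2_20) (A40 := A2_40)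
      (by decide +kernel) (by decide +kernel) (by decide +kernel)
      (by decide +kernel) (by decide +kernel) (by decide +kernel)
      (by decide +kernel)
  · exact pow41 (A := B2_1) (A2 := B2_2) (A4 := B2_4) (A5 := B2_5) (A10 := B2_10) (A20 := B2_20) (A40 := B2_40)
      (by decide +kernel) (by decide +kernel) (by decide +kernel)
      (by decide +kernel) (by decide +kernel) (by decide +kernel)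
      (by decide +kernel)

end Cfsg.Agent.H367.PO
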